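import Mathlib

/-!
# Prime-order Sylow subgroups acting on normal subgroups, and adjacency in the prime graph
-/

set_option autoImplicit false

namespace CfsgLib.Spectrum7920

open Subgroup

variable {H : Type*} [Group H] [Finite H]

/-- Adjacency in the prime graph. -/
def Adj (H : Type*) [Group H] (a b : ℕ) : Prop := ∃ g : H, orderOf g = a * b

omit [Finite H] in
theorem adj_of_commute {x y : H} (h : Commute x y) {a b : ℕ} (hx : orderOf x = a)
    (hy : orderOf y = b) (hab : Nat.Coprime a b) : Adj H a b :=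
  ⟨x * y, by rw [h.orderOf_mul_eq_mul_orderOf_of_coprime (by rw [hx, hy]; exact hab), hx, hy]⟩

omit [Finite H] in
theorem adj_symm {a b : ℕ} (h : Adj H a b) : Adj H b a := by
  rwa [Adj, Nat.mul_comm]

theorem card_fixed_modEq (Q S : Subgroup H) {p : ℕ} [Fact p.Prime] (hQ : IsPGroup p Q)
    (hQS : Q ≤ normalizer (S : Set H)) :
    Nat.card S ≡ Nat.card (S ⊓ centralizer (Q : Set H) : Subgroup H) [MOD p] := by
  let _ : MulAction Q S := MulAction.compHom S (S.normalizerMonoidHom.comp (Subgroup.inclusion hQS))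
  have hs : ∀ (y : Q) (x : S), ((y • x : S) : H) = (y : H) * x * (y : H)⁻¹ := fun y x => rfl
  have e : MulAction.fixedPoints Q S ≃ (S ⊓ centralizer (Q : Set H) : Subgroup H) :=
    { toFun := fun x => ⟨(x.1 : H), x.1.2, fun y hy => by
        have h := congrArg Subtype.val (x.2 ⟨y, hy⟩)
        rw [hs] at h
        exact mul_inv_eq_iff_eq_mul.mp h⟩
      invFun := fun x => ⟨⟨(x : H), x.2.1⟩, fun y => Subtype.ext (by
        rw [hs]
        exact mul_inv_eq_iff_eq_mul.mpr (x.2.2 y y.2))⟩
      left_inv := fun x => rfl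
      right_inv := fun x => rfl }
  rw [← Nat.card_congr e]
  exact hQ.card_modEq_card_fixedPoints S

theorem card_sylow_eq_prime {p m : ℕ} [Fact p.Prime] (h : Nat.card H = p * m) (hm : ¬ p ∣ m)
    (P : Sylow p H) : Nat.card (P : Subgroup H) = p := by
  have hm0 : m ≠ 0 := fun e => hm (e ▸ dvd_zero p)
  rw [P.card_eq_multiplicity, h, Nat.factorization_mul (Fact.out : p.Prime).ne_zero hm0,
    Finsupp.add_apply, (Fact.out : p.Prime).factorization_self,
    Nat.factorization_eq_zero_of_not_dvd hm, add_zero, pow_one]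

/-- Every element of order `p` is conjugate into a Sylow subgroup of order `p`, generating it. -/
theorem exists_conj_eq_zpowers {p : ℕ} [Fact p.Prime] (P : Sylow p H)
    (hP : Nat.card (P : Subgroup H) = p) {z : H} (hz : orderOf z = p) :
    ∃ g : H, (zpowers z).map (MulAut.conj g).toMonoidHom = (P : Subgroup H) := by
  have hpz : IsPGroup p (zpowers z) :=
    IsPGroup.of_card (n := 1) (by rw [Nat.card_zpowers, hz, pow_one])
  obtain ⟨R, hR⟩ := hpz.exists_le_sylow
  obtain ⟨g, hg⟩ := MulAction.exists_smul_eq H R P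
  refine ⟨g, Subgroup.eq_of_le_of_card_ge ?_ ?_⟩
  · rw [← hg]
    exact Subgroup.map_mono hR
  · rw [hP, Subgroup.card_map_of_injective (MulAut.conj g).injective, Nat.card_zpowers, hz]

/-- A normal subgroup of order divisible by `p` contains every element of order `p`. -/
theorem mem_normal_of_orderOf {p : ℕ} [Fact p.Prime] (P : Sylow p H)
    (hP : Nat.card (P : Subgroup H) = p) (K : Subgroup H) [hK : K.Normal]
    (hdvd : p ∣ Nat.card K) {x : H} (hx : orderOf x = p) : x ∈ K := by
  obtain ⟨z, hz⟩ := exists_prime_orderOf_dvd_card' p hdvd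
  obtain ⟨g, hg⟩ := exists_conj_eq_zpowers P hP (z := (z : H)) (by rw [Subgroup.orderOf_coe]; exact hz)
  obtain ⟨g', hg'⟩ := exists_conj_eq_zpowers P hP hx
  have h1 : g' * x * g'⁻¹ ∈ (P : Subgroup H) := hg' ▸ ⟨x, mem_zpowers x, rfl⟩
  have h2 : (P : Subgroup H) ≤ K := by
    rw [← hg, Subgroup.map_le_iff_le_comap, zpowers_le]
    exact hK.conj_mem _ z.2 g
  have := hK.conj_mem _ (h2 h1) g'⁻¹
  simpa [mul_assoc] using this

theorem sylow_le_normal {p : ℕ} [Fact p.Prime] (P : Sylow p H)
    (hP : Nat.card (P : Subgroup H) = p) (K : Subgroup H) [K.Normal]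
    (hdvd : p ∣ Nat.card K) : (P : Subgroup H) ≤ K := by
  intro x hx
  by_cases hx1 : x = 1
  · rw [hx1]; exact K.one_mem
  · refine mem_normal_of_orderOf P hP K hdvd ?_
    have := (Fact.out : p.Prime).eq_one_or_self_of_dvd _ (hP ▸ Subgroup.orderOf_dvd_natCard _ hx)
    exact this.resolve_left (fun e => hx1 (orderOf_eq_one_iff.mp e))

/-- If two commuting elements have orders `p` and `r` then `r` divides `|C(P)|`. -/
theorem dvd_card_centralizer_of_commute {p : ℕ} [Fact p.Prime] (P : Sylow p H)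
    (hP : Nat.card (P : Subgroup H) = p) {x y : H} (hx : orderOf x = p) (hxy : Commute x y) :
    orderOf y ∣ Nat.card (centralizer ((P : Subgroup H) : Set H)) := by
  obtain ⟨g, hg⟩ := exists_conj_eq_zpowers P hP hx
  have hmem : g * y * g⁻¹ ∈ centralizer ((P : Subgroup H) : Set H) := by
    intro w hw
    rw [← hg] at hw
    obtain ⟨v, hv, rfl⟩ := hw
    obtain ⟨k, rfl⟩ := Subgroup.mem_zpowers_iff.mp hv
    exact ((hxy.zpow_left k).map (MulAut.conj g).toMonoidHom).eq
  rw [← orderOf_injective (MulAut.conj g).toMonoidHom (MulAut.conj g).injective y]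
  exact Subgroup.orderOf_dvd_natCard _ hmem

theorem index_dvd_of_sup_eq_top (N K : Subgroup H) [K.Normal] (h : N ⊔ K = ⊤) :
    K.index ∣ Nat.card N := by
  rw [Subgroup.index_eq_card]
  refine Subgroup.card_dvd_of_surjective ((QuotientGroup.mk' K).comp N.subtype) ?_
  intro q
  obtain ⟨g, rfl⟩ := QuotientGroup.mk'_surjective K q
  obtain ⟨n, hn, k, hk, rfl⟩ := Subgroup.mem_sup_of_normal_right.mp (h ▸ mem_top g : g ∈ N ⊔ K)
  exact ⟨⟨n, hn⟩, by
    rw [map_mul, (QuotientGroup.eq_one_iff k).mpr hk |> fun e => (show QuotientGroup.mk' K k = 1 from e),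
      mul_one]
    rfl⟩

/-- Frattini: a Sylow subgroup of prime order centralises some element of order `r` in `K`. -/
theorem exists_orderOf_commute {p : ℕ} [Fact p.Prime] (P : Sylow p H)
    (hP : Nat.card (P : Subgroup H) = p) (K : Subgroup H) [hKn : K.Normal] (hK : ¬ p ∣ Nat.card K)
    {r a : ℕ} [Fact r.Prime] (hra : r ^ a ∣ Nat.card K)
    (hra' : ¬ r ^ (a + 1) ∣ Nat.card K) (hmod : r ^ a % p ≠ 1) :
    ∃ x ∈ K, orderOf x = r ∧ ∀ y ∈ (P : Subgroup H), Commute y x := by
  have hp : p.Prime := Fact.out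
  have hr : r.Prime := Fact.out
  obtain ⟨S⟩ := (inferInstance : Nonempty (Sylow r K))
  set S' := (S : Subgroup K).map K.subtype with hS'
  have hS'card : Nat.card S' = r ^ a := by
    rw [hS', Subgroup.card_map_of_injective K.subtype_injective, S.card_eq_multiplicity]
    congr 1
    have h1 := (hr.pow_dvd_iff_le_factorization Nat.card_pos.ne').mp hra
    have h2 : ¬ a + 1 ≤ (Nat.card K).factorization r := fun h =>
      hra' ((hr.pow_dvd_iff_le_factorization Nat.card_pos.ne').mpr h)
    omega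
  have hS'K : S' ≤ K := Subgroup.map_subtype_le _
  have hN := index_dvd_of_sup_eq_top _ K (Sylow.normalizer_sup_eq_top S)
  have hpH : p ∣ Nat.card H := hP ▸ Subgroup.card_subgroup_dvd_card _
  have hpidx : p ∣ K.index := by
    rw [← K.card_mul_index] at hpH
    exact (hp.dvd_mul.mp hpH).resolve_left hK
  obtain ⟨y, hy⟩ := exists_prime_orderOf_dvd_card' p (hpidx.trans hN)
  obtain ⟨g, hg⟩ := exists_conj_eq_zpowers P hP (z := (y : H)) (by rw [Subgroup.orderOf_coe]; exact hy)
  set S'' := S'.map (MulAut.conj g).toMonoidHom with hS''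
  have hPN : (P : Subgroup H) ≤ normalizer (S'' : Set H) := by
    rw [← hg, hS'']
    refine le_trans ?_ (Subgroup.le_normalizer_map _)
    exact Subgroup.map_mono (zpowers_le.mpr y.2)
  have hcard : Nat.card S'' = r ^ a := by
    rw [hS'', Subgroup.card_map_of_injective (MulAut.conj g).injective, hS'card]
  have hfix := card_fixed_modEq (P : Subgroup H) S'' P.2 hPN
  set F := (S'' ⊓ centralizer ((P : Subgroup H) : Set H) : Subgroup H)
  obtain ⟨i, -, hi⟩ := (Nat.dvd_prime_pow hr).mp (hcard ▸ Subgroup.card_dvd_of_le (inf_le_left : F ≤ S''))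
  have hi0 : i ≠ 0 := by
    rintro rfl
    rw [hcard, hi, pow_zero, Nat.ModEq, Nat.one_mod_eq_one.mpr hp.ne_one] at hfix
    exact hmod hfix
  obtain ⟨x, hx⟩ := exists_prime_orderOf_dvd_card' r (hi ▸ dvd_pow_self r hi0 : r ∣ Nat.card F)
  refine ⟨x, ?_, by rw [Subgroup.orderOf_coe]; exact hx, fun y hy => x.2.2 y hy⟩
  obtain ⟨v, hv, hvx⟩ := x.2.1
  rw [← hvx]
  exact hKn.conj_mem _ (hS'K hv) g

/-- The relative index of `C(P)` in `N(P)` divides `|Aut P|`. -/
theorem index_centralizer_subgroupOf_dvd {p : ℕ} [Fact p.Prime] (P : Subgroup H)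
    (hP : Nat.card P = p) :
    ((centralizer (P : Set H)).subgroupOf (normalizer (P : Set H))).index ∣ p - 1 := by
  have hcyc : IsCyclic P := isCyclic_of_prime_card hP
  rw [← Subgroup.normalizerMonoidHom_ker, Subgroup.index_ker]
  refine (Subgroup.card_subgroup_dvd_card _).trans ?_
  rw [IsCyclic.card_mulAut, hP, Nat.totient_prime Fact.out]

end CfsgLib.Spectrum7920
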