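import Cfsg.Agent.Lib.Spectrum.Order7920.Basic
import Cfsg.Agent.Lib.BrauerTuan.RangeSound

/-!
# A group of order 7920 with disconnected prime graph is simple
-/

set_option autoImplicit false

namespace CfsgLib.Spectrum7920

open Subgroup

universe u

theorem false_simple {H : Type u} [Group H] [Finite H] [IsSimpleGroup H]
    (hH : ¬ IsMulCommutative H)
    (h : Nat.card H = 495 ∨ Nat.card H = 990 ∨ Nat.card H = 1980 ∨ Nat.card H = 3960) : False := by
  open BrauerTuan BrauerTuan.Range3640 in
  rcases h with h | h | h | h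
  · have hm := mem_special hH (c := .block 11 [5, 11]) (h ▸ by decide +kernel)
    rw [h] at hm
    exact absurd hm (by decide)
  · have hm := mem_special hH (c := .sylow 0 2 1 495) (h ▸ by decide +kernel)
    rw [h] at hm
    exact absurd hm (by decide)
  · have hm := mem_special hH (c := .block 11 [5, 11]) (h ▸ by decide +kernel)
    rw [h] at hm
    exact absurd hm (by decide)
  · have hm := mem_special hH (c := .block 11 [5, 11]) (h ▸ by decide +kernel)
    rw [h] at hm
    exact absurd hm (by decide)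

variable {H : Type u} [Group H] [Finite H]

theorem pow_bound_three {k : ℕ} (hk : k ∣ 720) (h3 : 3 ∣ k) :
    ∃ a, 3 ^ a ∣ k ∧ ¬ 3 ^ (a + 1) ∣ k ∧ 3 ^ a % 11 ≠ 1 := by
  by_cases h9 : 9 ∣ k
  · exact ⟨2, h9, fun h => by have := h.trans hk; norm_num at this, by norm_num⟩
  · exact ⟨1, by simpa using h3, h9, by norm_num⟩

theorem pow_bound_two {k : ℕ} (hk : k ∣ 720) (h2 : 2 ∣ k) :
    ∃ a, 2 ^ a ∣ k ∧ ¬ 2 ^ (a + 1) ∣ k ∧ 2 ^ a % 11 ≠ 1 := by
  by_cases h4 : 4 ∣ k
  · by_cases h8 : 8 ∣ k
    · by_cases h16 : 16 ∣ k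
      · exact ⟨4, h16, fun h => by have := h.trans hk; norm_num at this, by norm_num⟩
      · exact ⟨3, h8, h16, by norm_num⟩
    · exact ⟨2, h4, h8, by norm_num⟩
  · exact ⟨1, by simpa using h2, h4, by norm_num⟩

theorem pow_bound_five {k : ℕ} (hk : k ∣ 720) (h5 : 5 ∣ k) :
    5 ^ 1 ∣ k ∧ ¬ 5 ^ (1 + 1) ∣ k :=
  ⟨by simpa using h5, fun h => by have := h.trans hk; norm_num at this⟩

theorem eq_of_dvd_sixteen {i j : ℕ} (hi : i ∣ 16) (hj : j ∣ 16) (h : i % 11 = j % 11) : i = j := by
  obtain ⟨a, ha, rfl⟩ := (Nat.dvd_prime_pow (m := 4) Nat.prime_two).mp hi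
  obtain ⟨b, hb, rfl⟩ := (Nat.dvd_prime_pow (m := 4) Nat.prime_two).mp hj
  interval_cases a <;> interval_cases b <;> first | rfl | norm_num at h

/-- Elements of order 11 commute with normal subgroups of order prime to 11. -/
theorem commute_of_normal (hno : ∀ x y : H, orderOf x = 11 → (orderOf y = 3 ∨ orderOf y = 5) → ¬ Commute x y)
    {m : ℕ} (hH : Nat.card H = 11 * m) (hm : m ∣ 720) (K : Subgroup H) [K.Normal]
    (hK : ¬ 11 ∣ Nat.card K) :
    Nat.card K ∣ 16 ∧ ∀ x : H, orderOf x = 11 → ∀ y ∈ K, Commute x y := by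
  haveI : Fact (Nat.Prime 11) := ⟨by norm_num⟩
  haveI : Fact (Nat.Prime 3) := ⟨by norm_num⟩
  haveI : Fact (Nat.Prime 5) := ⟨by norm_num⟩
  have hm11 : ¬ 11 ∣ m := fun h => by have := h.trans hm; norm_num at this
  have hK720 : Nat.card K ∣ 720 := by
    refine (Nat.Coprime.dvd_of_dvd_mul_left ?_ (hH ▸ K.card_subgroup_dvd_card)).trans hm
    exact ((Nat.Prime.coprime_iff_not_dvd (by norm_num)).mpr hK).symm
  obtain ⟨P⟩ := (inferInstance : Nonempty (Sylow 11 H))
  have hP := card_sylow_eq_prime hH hm11 P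
  obtain ⟨z, hz⟩ := exists_prime_orderOf_dvd_card' (G := (P : Subgroup H)) 11 (by rw [hP])
  have h3 : ¬ 3 ∣ Nat.card K := fun h => by
    obtain ⟨a, ha, ha', hmod⟩ := pow_bound_three hK720 h
    obtain ⟨x, -, hx, hc⟩ := exists_orderOf_commute P hP K hK ha ha' hmod
    exact hno z x (by rw [Subgroup.orderOf_coe]; exact hz) (Or.inl hx) (hc z z.2)
  have h5 : ¬ 5 ∣ Nat.card K := fun h => by
    obtain ⟨ha, ha'⟩ := pow_bound_five hK720 h
    obtain ⟨x, -, hx, hc⟩ := exists_orderOf_commute P hP K hK ha ha' (by norm_num)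
    exact hno z x (by rw [Subgroup.orderOf_coe]; exact hz) (Or.inr hx) (hc z z.2)
  have h45 : Nat.Coprime (Nat.card K) 45 := by
    rw [show (45 : ℕ) = 3 ^ 2 * 5 by norm_num]
    exact Nat.Coprime.mul_right (Nat.Coprime.pow_right _
      ((Nat.Prime.coprime_iff_not_dvd (by norm_num)).mpr h3).symm)
      ((Nat.Prime.coprime_iff_not_dvd (by norm_num)).mpr h5).symm
  have h16 : Nat.card K ∣ 16 :=
    h45.dvd_of_dvd_mul_right (by rw [show 16 * 45 = 720 by norm_num]; exact hK720)
  refine ⟨h16, fun x hx y hy => ?_⟩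
  have hQ : IsPGroup 11 (zpowers x) :=
    IsPGroup.of_card (n := 1) (by rw [Nat.card_zpowers, hx, pow_one])
  have hfix := card_fixed_modEq (zpowers x) K hQ
    (by rw [normalizer_eq_top]; exact le_top)
  have hle : (K ⊓ centralizer (zpowers x : Set H) : Subgroup H) ≤ K := inf_le_left
  have he := eq_of_dvd_sixteen h16 ((Subgroup.card_dvd_of_le hle).trans h16) hfix
  have := Subgroup.eq_of_le_of_card_ge hle he.le
  rw [← this] at hy
  exact hy.2 x (mem_zpowers x)

section Seven

variable {G : Type u} [Group G] [Finite G]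

theorem isSimpleGroup_of_disconnected (hord : Nat.card G = 7920)
    (hdisc : ∃ A : Set ℕ, (∃ a ∈ A, a.Prime ∧ a ∣ Nat.card G) ∧ (∃ b ∉ A, b.Prime ∧ b ∣ Nat.card G) ∧
      ∀ a ∈ A, ∀ b ∉ A, a.Prime → b.Prime → a ∣ Nat.card G → b ∣ Nat.card G → ¬ ∃ g : G, orderOf g = a * b) :
    IsSimpleGroup G := by
  haveI h11 : Fact (Nat.Prime 11) := ⟨by norm_num⟩
  haveI h5 : Fact (Nat.Prime 5) := ⟨by norm_num⟩
  haveI h3 : Fact (Nat.Prime 3) := ⟨by norm_num⟩
  haveI h2 : Fact (Nat.Prime 2) := ⟨by norm_num⟩
  obtain ⟨A, ⟨a₀, ha₀A, ha₀, ha₀d⟩, ⟨b₀, hb₀A, hb₀, hb₀d⟩, hno⟩ := hdisc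
  rw [hord] at ha₀d hb₀d hno
  have link : ∀ a b : ℕ, a.Prime → b.Prime → a ∣ 7920 → b ∣ 7920 → Adj G a b → (a ∈ A ↔ b ∈ A) := by
    intro a b ha hb had hbd hab
    constructor
    · intro h
      by_contra h'
      exact hno a h b h' ha hb had hbd hab
    · intro h
      by_contra h'
      exact hno b h a h' hb ha hbd had (adj_symm hab)
  have hprimes : ∀ q : ℕ, q.Prime → q ∣ 7920 → q = 2 ∨ q = 3 ∨ q = 5 ∨ q = 11 := by
    intro q hq hd
    have e : (7920 : ℕ) = 2 ^ 4 * 3 ^ 2 * 5 * 11 := by norm_num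
    rw [e] at hd
    rcases hq.dvd_mul.mp hd with h | h
    · rcases hq.dvd_mul.mp h with h | h
      · rcases hq.dvd_mul.mp h with h | h
        · exact Or.inl ((Nat.prime_dvd_prime_iff_eq hq Nat.prime_two).mp (hq.dvd_of_dvd_pow h))
        · exact Or.inr (Or.inl ((Nat.prime_dvd_prime_iff_eq hq h3.out).mp (hq.dvd_of_dvd_pow h)))
      · exact Or.inr (Or.inr (Or.inl ((Nat.prime_dvd_prime_iff_eq hq h5.out).mp h)))
    · exact Or.inr (Or.inr (Or.inr ((Nat.prime_dvd_prime_iff_eq hq h11.out).mp h)))
  have finish : (2 ∈ A ↔ 11 ∈ A) → (3 ∈ A ↔ 11 ∈ A) → (5 ∈ A ↔ 11 ∈ A) → False := by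
    intro e2 e3 e5
    rcases hprimes a₀ ha₀ ha₀d with rfl | rfl | rfl | rfl <;>
      rcases hprimes b₀ hb₀ hb₀d with rfl | rfl | rfl | rfl <;> tauto
  have d2 : (2 : ℕ) ∣ 7920 := by norm_num
  have d3 : (3 : ℕ) ∣ 7920 := by norm_num
  have d5 : (5 : ℕ) ∣ 7920 := by norm_num
  have d11 : (11 : ℕ) ∣ 7920 := by norm_num
  have hG11 : Nat.card G = 11 * 720 := by rw [hord]
  obtain ⟨P⟩ := (inferInstance : Nonempty (Sylow 11 G))
  have hP := card_sylow_eq_prime hG11 (by norm_num) P
  obtain ⟨⟨z, hzP⟩, hz⟩ := exists_prime_orderOf_dvd_card' (G := (P : Subgroup G)) 11 (by rw [hP])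
  replace hz : orderOf z = 11 := by rw [← hz, Subgroup.orderOf_mk]
  set c := Nat.card (centralizer ((P : Subgroup G) : Set G)) with hc
  have hadj : ∀ r : ℕ, r.Prime → r ≠ 11 → r ∣ c → Adj G 11 r := by
    intro r hr hr11 hrc
    haveI := Fact.mk hr
    obtain ⟨y, hy⟩ := exists_prime_orderOf_dvd_card' r hrc
    exact adj_of_commute (y.2 z hzP) hz (by rw [Subgroup.orderOf_coe]; exact hy)
      ((Nat.coprime_primes h11.out hr).mpr (Ne.symm hr11))
  set n := Nat.card (Sylow 11 G) with hn
  set N := normalizer ((P : Subgroup G) : Set G) with hN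
  have hNn : Nat.card N * n = 7920 := by
    rw [hn, Sylow.card_eq_index_normalizer P]
    exact N.card_mul_index.trans hord
  have hn1 : n % 11 = 1 := by
    have h := card_sylow_modEq_one 11 G
    rwa [Nat.ModEq, Nat.one_mod_eq_one.mpr (by norm_num)] at h
  have hncases : n = 1 ∨ n = 12 ∨ n = 45 ∨ n = 144 := by
    have hd : n ∣ 720 := by
      refine (Nat.Coprime.dvd_of_dvd_mul_left ?_ (Dvd.intro_left _ hNn : n ∣ 11 * 720))
      refine ((Nat.Prime.coprime_iff_not_dvd h11.out).mpr fun h => ?_).symm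
      rw [Nat.mod_eq_zero_of_dvd h] at hn1
      omega
    have key : ∀ k ∈ Nat.divisors 720, k % 11 = 1 → k = 1 ∨ k = 12 ∨ k = 45 ∨ k = 144 := by decide +kernel
    exact key n (Nat.mem_divisors.mpr ⟨hd, by norm_num⟩) hn1
  set CN := (centralizer ((P : Subgroup G) : Set G)).subgroupOf N with hCN
  have hCle : centralizer ((P : Subgroup G) : Set G) ≤ N := by
    rw [hN]; exact Subgroup.centralizer_le_normalizer _
  have hCNcard : Nat.card CN = c :=
    Nat.card_congr (Subgroup.subgroupOfEquivOfLe hCle).toEquiv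
  have hidx : CN.index ∣ 10 := index_centralizer_subgroupOf_dvd _ hP
  have hci : c * CN.index = Nat.card N := by rw [← hCNcard, CN.card_mul_index]
  rcases hncases with h | h | h | h
  rotate_left 2
  · -- forty-five Sylow subgroups
    have hN176 : Nat.card N = 176 := by rw [h] at hNn; omega
    have hi : CN.index = 1 ∨ CN.index = 2 := by
      have h2 : CN.index ∣ 2 := by
        have := Nat.dvd_gcd hidx (hN176 ▸ Dvd.intro_left _ hci : CN.index ∣ 176)
        simpa using this
      exact (Nat.dvd_prime Nat.prime_two).mp h2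
    have hcv : c = 176 ∨ c = 88 := by
      rw [hN176] at hci
      rcases hi with e | e <;> rw [e] at hci <;> omega
    have e2 : (2 ∈ A ↔ 11 ∈ A) :=
      (link 11 2 h11.out Nat.prime_two d11 d2 (hadj 2 Nat.prime_two (by norm_num) (by omega))).symm
    have hnc : ∀ x y : G, orderOf x = 11 → (orderOf y = 3 ∨ orderOf y = 5) → ¬ Commute x y := by
      intro x y hx hy hxy
      have := dvd_card_centralizer_of_commute P hP hx hxy
      rw [← hc] at this
      rcases hy with e | e <;> rw [e] at this <;> omega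
    by_cases hK : ∃ K : Subgroup G, K.Normal ∧ K ≠ ⊥ ∧ ¬ 11 ∣ Nat.card K
    · exfalso
      obtain ⟨K, hKn, hKb, hK11⟩ := hK
      obtain ⟨h16, hcomm⟩ := commute_of_normal hnc hG11 dvd_rfl K hK11
      set Z := centralizer (K : Set G) with hZ
      have hzZ : z ∈ Z := fun y hy => (hcomm z hz y hy).symm.eq
      have h11Z : 11 ∣ Nat.card Z := hz ▸ Subgroup.orderOf_dvd_natCard _ hzZ
      have hidxZ : Z.index ∣ Nat.card N := index_dvd_of_sup_eq_top _ Z
        (Sylow.normalizer_sup_eq_top' P (sylow_le_normal P hP Z h11Z))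
      rw [hN176] at hidxZ
      have h45 : 45 ∣ Nat.card Z := by
        have hmul : 45 * 176 = Nat.card Z * Z.index := by rw [Z.card_mul_index, hord]
        have hco : Nat.Coprime 45 Z.index := Nat.Coprime.coprime_dvd_right hidxZ (by norm_num)
        exact hco.dvd_of_dvd_mul_right (Dvd.intro _ hmul)
      obtain ⟨i, hi4, hi⟩ := (Nat.dvd_prime_pow (m := 4) Nat.prime_two).mp h16
      have hi0 : i ≠ 0 := by
        rintro rfl
        exact hKb (Subgroup.eq_bot_of_card_eq K (by rw [hi, pow_zero]))
      obtain ⟨k, hk⟩ := exists_prime_orderOf_dvd_card' (G := K) 2 (hi ▸ dvd_pow_self 2 hi0)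
      obtain ⟨y3, hy3⟩ := exists_prime_orderOf_dvd_card' (G := Z) 3 ((show 3 ∣ 45 by norm_num).trans h45)
      obtain ⟨y5, hy5⟩ := exists_prime_orderOf_dvd_card' (G := Z) 5 ((show 5 ∣ 45 by norm_num).trans h45)
      have a3 : Adj G 2 3 := adj_of_commute (y3.2 k k.2) (by rw [Subgroup.orderOf_coe]; exact hk)
        (by rw [Subgroup.orderOf_coe]; exact hy3) (by norm_num)
      have a5 : Adj G 2 5 := adj_of_commute (y5.2 k k.2) (by rw [Subgroup.orderOf_coe]; exact hk)
        (by rw [Subgroup.orderOf_coe]; exact hy5) (by norm_num)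
      exact finish e2 ((link 2 3 Nat.prime_two h3.out d2 d3 a3).symm.trans e2)
        ((link 2 5 Nat.prime_two h5.out d2 d5 a5).symm.trans e2)
    · have hK' : ∀ K : Subgroup G, K.Normal → K ≠ ⊥ → 11 ∣ Nat.card K :=
        fun K h1 h2' => by_contra fun h3' => hK ⟨K, h1, h2', h3'⟩
      haveI : Nontrivial G := Finite.one_lt_card_iff_nontrivial.mp (by rw [hord]; norm_num)
      by_contra hns
      obtain ⟨K₀, hK₀n, hK₀b, hK₀t⟩ : ∃ K : Subgroup G, K.Normal ∧ K ≠ ⊥ ∧ K ≠ ⊤ := by
        by_contra hall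
        exact hns ⟨fun K hK => or_iff_not_imp_left.mpr fun h1 => by_contra fun h2' => hall ⟨K, hK, h1, h2'⟩⟩
      haveI := hK₀n
      set H₀ := Subgroup.normalClosure ((P : Subgroup G) : Set G) with hH₀
      have hPH₀ : (P : Subgroup G) ≤ H₀ := Subgroup.subset_normalClosure
      have hH₀K : H₀ ≤ K₀ := by
        rw [hH₀]
        exact Subgroup.normalClosure_le_normal (sylow_le_normal P hP K₀ (hK' K₀ hK₀n hK₀b))
      have h11H : 11 ∣ Nat.card H₀ := hP ▸ Subgroup.card_dvd_of_le hPH₀
      have hidxH : H₀.index ∣ Nat.card N :=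
        index_dvd_of_sup_eq_top _ H₀ (Sylow.normalizer_sup_eq_top' P hPH₀)
      rw [hN176] at hidxH
      have hmulH := H₀.card_mul_index
      rw [hord] at hmulH
      have h45 : 45 ∣ Nat.card H₀ := by
        have hco : Nat.Coprime 45 H₀.index := Nat.Coprime.coprime_dvd_right hidxH (by norm_num)
        exact hco.dvd_of_dvd_mul_right (by rw [hmulH]; norm_num)
      have h16 : H₀.index ∣ 16 := by
        refine Nat.Coprime.dvd_of_dvd_mul_left ?_ (show H₀.index ∣ 11 * 16 from hidxH)
        refine ((Nat.Prime.coprime_iff_not_dvd h11.out).mpr fun h' => ?_).symm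
        have := Nat.mul_dvd_mul h11H h'
        rw [hmulH] at this
        norm_num at this
      have hne1 : H₀.index ≠ 1 := fun e => hK₀t (top_le_iff.mp ((Subgroup.index_eq_one.mp e).ge.trans hH₀K))
      have hcases : Nat.card H₀ = 495 ∨ Nat.card H₀ = 990 ∨ Nat.card H₀ = 1980 ∨ Nat.card H₀ = 3960 := by
        obtain ⟨i, hi4, hi⟩ := (Nat.dvd_prime_pow (m := 4) Nat.prime_two).mp h16
        rw [hi] at hmulH hne1
        interval_cases i <;> omega
      obtain ⟨m, hm⟩ : ∃ m, Nat.card H₀ = 11 * m ∧ m ∣ 720 := by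
        rcases hcases with e | e | e | e
        · exact ⟨45, by rw [e], by norm_num⟩
        · exact ⟨90, by rw [e], by norm_num⟩
        · exact ⟨180, by rw [e], by norm_num⟩
        · exact ⟨360, by rw [e], by norm_num⟩
      have hm11 : ¬ 11 ∣ m := fun h' => by have := h'.trans hm.2; norm_num at this
      obtain ⟨Q⟩ := (inferInstance : Nonempty (Sylow 11 H₀))
      have hQ := card_sylow_eq_prime hm.1 hm11 Q
      have hcomm0 : ¬ IsMulCommutative H₀ := by
        intro hab
        have hle : H₀ ≤ centralizer ((P : Subgroup G) : Set G) := fun x hx y hy =>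
          congrArg Subtype.val (hab.is_comm.comm (⟨y, hPH₀ hy⟩ : H₀) ⟨x, hx⟩)
        have := h45.trans (Subgroup.card_dvd_of_le hle)
        rw [← hc] at this
        omega
      haveI : Nontrivial H₀ := Finite.one_lt_card_iff_nontrivial.mp (by omega)
      have hnc0 : ∀ x y : H₀, orderOf x = 11 → (orderOf y = 3 ∨ orderOf y = 5) → ¬ Commute x y :=
        fun x y hx hy hxy => hnc x y (by rw [Subgroup.orderOf_coe]; exact hx)
          (by rw [Subgroup.orderOf_coe]; exact hy) (hxy.map H₀.subtype)
      have hclos : ∀ S : Subgroup H₀, (∀ x : H₀, orderOf x = 11 → x ∈ S) → S = ⊤ := by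
        intro S hS
        have hle : H₀ ≤ S.map H₀.subtype := by
          refine hH₀.le.trans ?_
          rw [Subgroup.normalClosure]
          refine (Subgroup.closure_le _).mpr fun x hx => ?_
          have hxH : x ∈ H₀ := Subgroup.subset_closure hx
          obtain ⟨y, hy, hyx⟩ := Group.mem_conjugatesOfSet_iff.mp hx
          refine ⟨⟨x, hxH⟩, ?_, rfl⟩
          by_cases hx1 : x = 1
          · subst hx1; exact S.one_mem
          · refine hS _ ?_
            rw [Subgroup.orderOf_mk]
            obtain ⟨g, hg⟩ := isConj_iff.mp hyx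
            have hxy : orderOf x = orderOf y := by
              rw [← hg]; exact orderOf_injective (MulAut.conj g).toMonoidHom (MulAut.conj g).injective y
            have hd : orderOf x ∣ 11 := by
              rw [hxy, ← hP]; exact Subgroup.orderOf_dvd_natCard _ hy
            exact ((Nat.dvd_prime h11.out).mp hd).resolve_left (fun e => hx1 (orderOf_eq_one_iff.mp e))
        refine eq_top_iff.mpr fun x _ => ?_
        obtain ⟨y, hy, hyx⟩ := hle x.2
        rwa [← Subtype.ext hyx]
      haveI : IsSimpleGroup H₀ := by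
        refine ⟨fun L hL => ?_⟩
        by_cases h11L : 11 ∣ Nat.card L
        · exact Or.inr (hclos L fun x hx => mem_normal_of_orderOf Q hQ L h11L hx)
        · left
          obtain ⟨-, hcL⟩ := commute_of_normal hnc0 hm.1 hm.2 L h11L
          have hcen : L ≤ Subgroup.center H₀ := fun y hy => by
            have htop : centralizer ({y} : Set H₀) = ⊤ := hclos _ fun x hx =>
              Subgroup.mem_centralizer_singleton_iff.mpr (hcL x hx y hy)
            refine Subgroup.mem_center_iff.mpr fun w => ?_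
            exact Subgroup.mem_centralizer_singleton_iff.mp (htop ▸ Subgroup.mem_top w)
          by_contra hLb
          set W := (Subgroup.center H₀).map H₀.subtype with hW
          have hWb : W ≠ ⊥ := fun e => hLb (le_bot_iff.mp (hcen.trans
            ((Subgroup.map_eq_bot_iff_of_injective _ H₀.subtype_injective).mp e).le))
          have hWn : W.Normal := ConjAct.normal_of_characteristic_of_normal
          have hPW := sylow_le_normal P hP W (hK' W hWn hWb)
          have hHW : H₀ ≤ W := hH₀.le.trans (Subgroup.normalClosure_le_normal hPW)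
          refine hcomm0 ⟨⟨fun x y => ?_⟩⟩
          obtain ⟨x', hx', hxx⟩ := hHW x.2
          rw [← Subtype.ext hxx]
          exact (Subgroup.mem_center_iff.mp hx' y).symm
      exact false_simple hcomm0 hcases
  · -- one hundred and forty-four Sylow subgroups
    have hN55 : Nat.card N = 55 := by rw [h] at hNn; omega
    have hc55 : c ∣ 55 := hN55 ▸ Dvd.intro _ hci
    haveI : Nontrivial G := Finite.one_lt_card_iff_nontrivial.mp (by rw [hord]; norm_num)
    refine ⟨fun K hKn => or_iff_not_imp_left.mpr fun hKb => by_contra fun hKt => ?_⟩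
    haveI := hKn
    by_cases hK11 : 11 ∣ Nat.card K
    · set H₀ := Subgroup.normalClosure ((P : Subgroup G) : Set G) with hH₀
      have hPH₀ : (P : Subgroup G) ≤ H₀ := Subgroup.subset_normalClosure
      have hH₀K : H₀ ≤ K := hH₀.le.trans (Subgroup.normalClosure_le_normal (sylow_le_normal P hP K hK11))
      have h11H : 11 ∣ Nat.card H₀ := hP ▸ Subgroup.card_dvd_of_le hPH₀
      have hidxH : H₀.index ∣ Nat.card N :=
        index_dvd_of_sup_eq_top _ H₀ (Sylow.normalizer_sup_eq_top' P hPH₀)
      rw [hN55] at hidxH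
      have hmulH := H₀.card_mul_index
      rw [hord] at hmulH
      have hne1 : H₀.index ≠ 1 := fun e => hKt (top_le_iff.mp ((Subgroup.index_eq_one.mp e).ge.trans hH₀K))
      have hi5 : H₀.index = 5 := by
        have h5' : H₀.index ∣ 5 := by
          refine Nat.Coprime.dvd_of_dvd_mul_left ?_ (show H₀.index ∣ 11 * 5 from hidxH)
          refine ((Nat.Prime.coprime_iff_not_dvd h11.out).mpr fun h' => ?_).symm
          have := Nat.mul_dvd_mul h11H h'
          rw [hmulH] at this
          norm_num at this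
        exact ((Nat.dvd_prime h5.out).mp h5').resolve_left hne1
      have hH₀card : Nat.card H₀ = 11 * 144 := by rw [hi5] at hmulH; omega
      obtain ⟨Q⟩ := (inferInstance : Nonempty (Sylow 11 H₀))
      have hQ := card_sylow_eq_prime hH₀card (by norm_num) Q
      obtain ⟨q, hq⟩ := exists_prime_orderOf_dvd_card' (G := (Q : Subgroup H₀)) 11 (by rw [hQ])
      have hqG : orderOf (((q : H₀) : G)) = 11 := by
        rw [Subgroup.orderOf_coe, Subgroup.orderOf_coe]; exact hq
      have hQN : normalizer ((Q : Subgroup H₀) : Set H₀) ≤ centralizer ((Q : Subgroup H₀) : Set H₀) := by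
        set Q' := (Q : Subgroup H₀).map H₀.subtype with hQ'
        have hQ'card : Nat.card Q' = 11 := by
          rw [hQ', Subgroup.card_map_of_injective H₀.subtype_injective, hQ]
        have hQ'S : IsPGroup 11 Q' := IsPGroup.of_card (n := 1) (by rw [hQ'card, pow_one])
        obtain ⟨R, hR⟩ := hQ'S.exists_le_sylow
        have hQR : Q' = (R : Subgroup G) := Subgroup.eq_of_le_of_card_ge hR
          (by rw [hQ'card, card_sylow_eq_prime hG11 (by norm_num) R])
        have hcardN : Nat.card (normalizer (Q' : Set G)) = 55 := by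
          have h1 : Nat.card (normalizer ((R : Subgroup G) : Set G)) * n = 7920 := by
            rw [hn, Sylow.card_eq_index_normalizer R]
            exact (Subgroup.card_mul_index _).trans hord
          rw [h] at h1
          rw [hQR]
          omega
        set NQ := normalizer ((Q : Subgroup H₀) : Set H₀) with hNQ
        have hd : Nat.card NQ ∣ 55 := by
          rw [← hcardN, ← Subgroup.card_map_of_injective H₀.subtype_injective (K := NQ)]
          exact Subgroup.card_dvd_of_le (Subgroup.le_normalizer_map _)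
        have hd' : Nat.card NQ ∣ 11 * 144 := hH₀card ▸ Subgroup.card_subgroup_dvd_card _
        have hd11 : Nat.card NQ ∣ 11 := by
          have := Nat.dvd_gcd hd hd'
          norm_num at this
          exact this
        have heq : (Q : Subgroup H₀) = NQ := Subgroup.eq_of_le_of_card_ge Subgroup.le_normalizer
          (by rw [hQ]; exact Nat.le_of_dvd (by norm_num) hd11)
        haveI : IsCyclic (Q : Subgroup H₀) := isCyclic_of_prime_card hQ
        rw [← heq]
        intro x hx y hy
        exact congrArg Subtype.val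
          (IsMulCommutative.is_comm.comm (⟨y, hy⟩ : (Q : Subgroup H₀)) ⟨x, hx⟩)
      have hL := MonoidHom.ker_transferSylow_isComplement' Q hQN
      set L := (MonoidHom.transferSylow Q hQN).ker with hLdef
      have hLcard : Nat.card L = 144 := by
        have h1 := hL.card_mul
        rw [hQ, hH₀card] at h1
        omega
      obtain ⟨x, -, hx, hxc⟩ := exists_orderOf_commute Q hQ L (by rw [hLcard]; norm_num) (r := 2) (a := 4)
        (by rw [hLcard]; norm_num) (by rw [hLcard]; norm_num) (by norm_num)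
      have := dvd_card_centralizer_of_commute P hP hqG ((hxc q q.2).map H₀.subtype)
      rw [Subgroup.coe_subtype, Subgroup.orderOf_coe, hx, ← hc] at this
      have := this.trans hc55
      norm_num at this
    · have hK720 : Nat.card K ∣ 720 :=
        Nat.Coprime.dvd_of_dvd_mul_left (((Nat.Prime.coprime_iff_not_dvd h11.out).mpr hK11).symm)
          (hG11 ▸ K.card_subgroup_dvd_card)
      have h2K : ¬ 2 ∣ Nat.card K := fun h2' => by
        obtain ⟨a, ha, ha', hmod⟩ := pow_bound_two hK720 h2'
        obtain ⟨x, -, hx, hxc⟩ := exists_orderOf_commute P hP K hK11 ha ha' hmod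
        have := dvd_card_centralizer_of_commute P hP hz (hxc z hzP)
        rw [hx, ← hc] at this
        have := this.trans hc55
        norm_num at this
      have h3K : ¬ 3 ∣ Nat.card K := fun h3' => by
        obtain ⟨a, ha, ha', hmod⟩ := pow_bound_three hK720 h3'
        obtain ⟨x, -, hx, hxc⟩ := exists_orderOf_commute P hP K hK11 ha ha' hmod
        have := dvd_card_centralizer_of_commute P hP hz (hxc z hzP)
        rw [hx, ← hc] at this
        have := this.trans hc55
        norm_num at this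
      have hK5 : Nat.card K = 5 := by
        have hco : Nat.Coprime (Nat.card K) 144 := by
          rw [show (144 : ℕ) = 2 ^ 4 * 3 ^ 2 by norm_num]
          exact Nat.Coprime.mul_right
            (Nat.Coprime.pow_right _ ((Nat.Prime.coprime_iff_not_dvd Nat.prime_two).mpr h2K).symm)
            (Nat.Coprime.pow_right _ ((Nat.Prime.coprime_iff_not_dvd h3.out).mpr h3K).symm)
        have h5' : Nat.card K ∣ 5 := hco.dvd_of_dvd_mul_right (by norm_num; exact hK720)
        exact ((Nat.dvd_prime h5.out).mp h5').resolve_left (fun e => hKb (Subgroup.eq_bot_of_card_eq K e))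
      set Z := centralizer (K : Set G) with hZ
      have hZ4 : Z.index ∣ 4 := by
        have h1 := index_centralizer_subgroupOf_dvd K hK5
        rw [← Subgroup.relIndex, normalizer_eq_top, Subgroup.relIndex_top_right] at h1
        exact h1
      have hmulZ := Z.card_mul_index
      rw [hord] at hmulZ
      have hdZ : 1980 ∣ Nat.card Z := by
        obtain ⟨i, hi2, hi⟩ := (Nat.dvd_prime_pow (m := 2) Nat.prime_two).mp hZ4
        rw [hi] at hmulZ
        interval_cases i <;> norm_num at hmulZ <;> omega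
      obtain ⟨k, hk⟩ := exists_prime_orderOf_dvd_card' (G := K) 5 (by rw [hK5])
      have mk : ∀ r : ℕ, r.Prime → r ∣ 1980 → r ≠ 5 → Adj G 5 r := by
        intro r hr hrd hr5
        haveI := Fact.mk hr
        obtain ⟨y, hy⟩ := exists_prime_orderOf_dvd_card' (G := Z) r (hrd.trans hdZ)
        exact adj_of_commute (y.2 k k.2) (by rw [Subgroup.orderOf_coe]; exact hk)
          (by rw [Subgroup.orderOf_coe]; exact hy) ((Nat.coprime_primes h5.out hr).mpr (Ne.symm hr5))
      have l2 := link 5 2 h5.out Nat.prime_two d5 d2 (mk 2 Nat.prime_two (by norm_num) (by norm_num))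
      have l3 := link 5 3 h5.out h3.out d5 d3 (mk 3 h3.out (by norm_num) (by norm_num))
      have l11 := link 5 11 h5.out h11.out d5 d11 (mk 11 h11.out (by norm_num) (by norm_num))
      exact finish (l2.symm.trans l11) (l3.symm.trans l11) l11
  all_goals
    exfalso
    have hNv : Nat.card N = 7920 ∨ Nat.card N = 660 := by rw [h] at hNn; omega
    have hiv : CN.index = 1 ∨ CN.index = 2 ∨ CN.index = 5 ∨ CN.index = 10 := by
      have key : ∀ k ∈ Nat.divisors 10, k = 1 ∨ k = 2 ∨ k = 5 ∨ k = 10 := by decide +kernel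
      exact key _ (Nat.mem_divisors.mpr ⟨hidx, by norm_num⟩)
    have h2c : 2 ∣ c := by
      rcases hiv with e | e | e | e <;> rw [e] at hci <;> omega
    have h3c : 3 ∣ c := by
      rcases hiv with e | e | e | e <;> rw [e] at hci <;> omega
    have e2 : (2 ∈ A ↔ 11 ∈ A) :=
      (link 11 2 h11.out Nat.prime_two d11 d2 (hadj 2 Nat.prime_two (by norm_num) h2c)).symm
    have e3 : (3 ∈ A ↔ 11 ∈ A) :=
      (link 11 3 h11.out h3.out d11 d3 (hadj 3 h3.out (by norm_num) h3c)).symm
    by_cases h5c : 5 ∣ c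
    · exact finish e2 e3 (link 11 5 h11.out h5.out d11 d5 (hadj 5 h5.out (by norm_num) h5c)).symm
    · haveI : CN.Normal := by rw [hCN, ← Subgroup.normalizerMonoidHom_ker]; infer_instance
      obtain ⟨m, hm, hm5⟩ : ∃ m, Nat.card N = 5 * m ∧ ¬ 5 ∣ m := by
        rcases hNv with e | e
        · exact ⟨1584, by rw [e], by norm_num⟩
        · exact ⟨132, by rw [e], by norm_num⟩
      obtain ⟨P5⟩ := (inferInstance : Nonempty (Sylow 5 N))
      have hP5 := card_sylow_eq_prime hm hm5 P5
      have hc7920 : c ∣ 7920 := hord ▸ Subgroup.card_subgroup_dvd_card _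
      obtain ⟨a, ha, ha', hmod⟩ : ∃ a, 3 ^ a ∣ Nat.card CN ∧ ¬ 3 ^ (a + 1) ∣ Nat.card CN ∧
          3 ^ a % 5 ≠ 1 := by
        rw [hCNcard]
        by_cases h9 : 9 ∣ c
        · exact ⟨2, h9, fun h' => by have := h'.trans hc7920; norm_num at this, by norm_num⟩
        · exact ⟨1, by simpa using h3c, h9, by norm_num⟩
      obtain ⟨x, -, hx, hxc⟩ := exists_orderOf_commute P5 hP5 CN (hCNcard ▸ h5c) ha ha' hmod
      obtain ⟨q, hq⟩ := exists_prime_orderOf_dvd_card' (G := (P5 : Subgroup N)) 5 (by rw [hP5])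
      have a53 : Adj G 5 3 := adj_of_commute ((hxc q q.2).map N.subtype)
        (by rw [Subgroup.coe_subtype, Subgroup.orderOf_coe, Subgroup.orderOf_coe]; exact hq)
        (by rw [Subgroup.coe_subtype, Subgroup.orderOf_coe]; exact hx) (by norm_num)
      exact finish e2 e3 ((link 5 3 h5.out h3.out d5 d3 a53).trans e3)

end Seven

end CfsgLib.Spectrum7920
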